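import Cfsg.Agent.Comp.J3.Main
import Cfsg.Agent.Comp.Trans

set_option autoImplicit false
set_option maxRecDepth 100000

namespace Cfsg.Agent.Comp.J3
open Cfsg.Agent.Comp

theorem st0 {bs : List ℕ} {m : ℕ} (h : BaseGe (genW (sig T) lowW1) bs m) :
    BaseGe (genW (sig T) (letters 6)) (0 :: bs) (6156 * m) :=
  BaseGe.step (W' := lowW1) (b := 0) (n := 6156) ok (le_of_subOK eqs (show subOK (letters 6) lowW1 E = true by decide +kernel)) (by decide +kernel)
    (le_ncard_of_ivl (a := 0) ok (by norm_num) (show Nat.beq (grow T (letters 6) [5, 0, 4, 3, 5, 0, 3, 4, 5, 3, 4, 0, 5, 3, 4, 0, 5, 3, 1, 4, 5, 0] (pt (nat_lit 0))) (ivl (nat_lit 0) (nat_lit 6156)) = true by decide +kernel)) h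

theorem st1 {bs : List ℕ} {m : ℕ} (h : BaseGe (genW (sig T) lowW2) bs m) :
    BaseGe (genW (sig T) lowW1) (1 :: bs) (85 * m) :=
  BaseGe.step (W' := lowW2) (b := 1) (n := 85) ok (le_of_subOK eqs (show subOK lowW1 lowW2 E = true by decide +kernel)) (by decide +kernel)
    (le_ncard_of_ivl (a := 1) ok (by norm_num) (show Nat.beq (grow T lowW1 [4, 3, 0, 1, 4, 3, 0, 4, 3, 1, 1, 0, 3, 0, 4] (pt (nat_lit 1))) (ivl (nat_lit 1) (nat_lit 85)) = true by decide +kernel)) h

theorem st2 {bs : List ℕ} {m : ℕ} (h : BaseGe (genW (sig T) lowW3) bs m) :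
    BaseGe (genW (sig T) lowW2) (1395 :: bs) (16 * m) :=
  BaseGe.step (W' := lowW3) (b := 1395) (n := 16) ok (le_of_subOK eqs (show subOK lowW2 lowW3 E = true by decide +kernel)) (by decide +kernel)
    (le_ncard_of_orbGe ok (by norm_num) (show orbGe (nat_lit 6156) (nat_lit 13) T lowW2 [3, 0, 1, 3, 1, 3, 0] (nat_lit 1395) (nat_lit 16) = true by decide +kernel)) h

theorem st3 {bs : List ℕ} {m : ℕ} (h : BaseGe (genW (sig T) lowW4) bs m) :
    BaseGe (genW (sig T) lowW3) (704 :: bs) (3 * m) :=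
  BaseGe.step (W' := lowW4) (b := 704) (n := 3) ok (le_of_subOK eqs (show subOK lowW3 lowW4 E = true by decide +kernel)) (by decide +kernel)
    (le_ncard_of_orbGe ok (by norm_num) (show orbGe (nat_lit 6156) (nat_lit 13) T lowW3 [1, 1] (nat_lit 704) (nat_lit 3) = true by decide +kernel)) h

theorem st4 {bs : List ℕ} {m : ℕ} (h : BaseGe (genW (sig T) []) bs m) :
    BaseGe (genW (sig T) lowW4) (716 :: bs) (2 * m) :=
  BaseGe.step (W' := []) (b := 716) (n := 2) ok (le_of_subOK eqs (show subOK lowW4 [] E = true by decide +kernel)) (by decide +kernel)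
    (le_ncard_of_ivl (a := 716) ok (by norm_num) (show Nat.beq (grow T lowW4 [0] (pt (nat_lit 716))) (ivl (nat_lit 716) (nat_lit 2)) = true by decide +kernel)) h

theorem cardR : Nat.card phi.range = 50232960 := by rw [rep.range, rep.card_gen card.2.2, card.2.1]

theorem base : IsBase phi.range [0, 1, 1395, 704, 716] :=
  BaseGe.isBase (st0 (st1 (st2 (st3 (st4 (BaseGe.nil _)))))) rep.range.ge (by rw [cardR]) (by norm_num)


end Cfsg.Agent.Comp.J3
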