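import Cfsg.Agent.Comp.J3.Main
import Cfsg.Agent.Comp.J3.MatF

set_option autoImplicit false
set_option maxRecDepth 100000

/-! The isomorphism of `Iso.lean` for fields in an arbitrary universe. -/

namespace Cfsg.Agent.Comp.J3.U
open Cfsg.Agent.Comp Cfsg.Agent.Comp.J3

section
variable {F : Type*} [Field F] {ω : F} {ι : K4 →+* F}

/-- the matrices of the letters over `F` -/
def mF (ι : K4 →+* F) (x : ℕ) : Matrix Spor.F9 Spor.F9 F := ι.mapMatrix (Mm x)

theorem unitF (ι : K4 →+* F) : ∀ x < 52, IsUnit (mF ι x) :=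
  isUnit_of_sat ((satM.appendM satU).mapM ι.mapMatrix.toMonoidHom) (by decide +kernel)

theorem en_lt : ∀ Z, en Z < 9 := by decide

theorem mapA (h : ι w4 = ω) (Z : Spor.F9) : Spor.j3A F ω Z = mF ι (7 + en Z) := by
  rw [mF, ← mA]; ext i j
  simp [Spor.j3A, Spor.omegaPow, Matrix.diagonal_apply, apply_ite ι, h]

theorem mapE (h : ι w4 = ω) (Z : Spor.F9) : Spor.j3E F ω Z = mF ι (16 + en Z) := by
  rw [mF, ← mE]; ext i j
  simp [Spor.j3E, Spor.omegaPow, Matrix.diagonal_apply, apply_ite ι, h]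

theorem mapD (h : ι w4 = ω) (Z : Spor.F9) : Spor.j3D F ω Z = mF ι (25 + en Z) := by
  rw [mF, ← mD]; ext i j
  simp [Spor.j3D, Spor.j3Lam, apply_ite ι, h]

theorem mapB {Z : Spor.F9} (hZ : Z ≠ 0) : Spor.j3B F Z = mF ι (34 + en Z) := by
  rw [mF, ← mB Z hZ]; ext i j
  simp [Spor.j3B, apply_ite ι]

theorem mapC {Z : Spor.F9} (hZ : Z ≠ 0) : Spor.j3C F Z = mF ι (43 + en Z) := by
  rw [mF, ← mC Z hZ]; ext i j
  simp [Spor.j3C, apply_ite ι]

theorem eqsF (ι : K4 →+* F) : ∀ e ∈ EM, ev (glS (mF ι)) e.1 = ev (glS (mF ι)) e.2 :=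
  eqs_glS (unitF ι) (by decide +kernel) (eqs_mapM eqsM ι.mapMatrix.toMonoidHom)

theorem satF (ι : K4 →+* F) : Sat (mF ι) RZ := satM.mapM ι.mapMatrix.toMonoidHom

theorem mF_eq (ι : K4 →+* F) (x : ℕ) : mF ι x = ι.mapMatrix (Mm x) := rfl

attribute [irreducible] mF

theorem gen_eq (h : ι w4 = ω) : gen (glS (mF ι)) 7 = Spor.threeJ3 F ω := by
  have hE := eqsF ι
  apply le_antisymm
  · refine (le_of_subOK (W := [[16], [28], [38], [46]]) hE (by decide +kernel)).trans (genW_le.mpr ?_)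
    simp only [List.forall_mem_cons, ev_single, List.not_mem_nil, IsEmpty.forall_iff, implies_true, and_true]
    refine ⟨?_, ?_, ?_, ?_⟩ <;> apply Subgroup.subset_closure <;>
      simp only [Set.mem_ofPred_eq] <;> rw [glS_val (unitF ι _ (by norm_num))]
    · exact Or.inl (Or.inl (Or.inl (Or.inr ⟨(0, 0), mapE h _⟩)))
    · exact Or.inl (Or.inl (Or.inr ⟨(1, 0), mapD h _⟩))
    · exact Or.inl (Or.inr ⟨(1, 1), by decide, (mapB (Z := (1, 1)) (by decide)).symm⟩)
    · exact Or.inr ⟨(1, 0), by decide, (mapC (Z := (1, 0)) (by decide)).symm⟩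
  · have h1 : gen (glS (mF ι)) 52 ≤ gen (glS (mF ι)) 7 := le_of_subOK hE (by decide +kernel)
    have h2 : ∀ (g : GL Spor.F9 F) x, x < 52 → (g : Matrix Spor.F9 Spor.F9 F) = mF ι x →
        g ∈ gen (glS (mF ι)) 7 := fun g x hx e => by
      rw [show g = glS (mF ι) x from Units.ext (by rw [glS_val (unitF ι x hx), e])]
      exact h1 (letter_mem_gen hx)
    refine (Subgroup.closure_le _).mpr fun g hg => ?_
    rcases hg with (((⟨Z, e⟩ | ⟨Z, e⟩) | ⟨Z, e⟩) | ⟨Z, hZ, e⟩) | ⟨Z, hZ, e⟩ <;> have := en_lt Z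
    · exact h2 g _ (by omega) (e.symm.trans (mapA h Z))
    · exact h2 g _ (by omega) (e.symm.trans (mapE h Z))
    · exact h2 g _ (by omega) (e.symm.trans (mapD h Z))
    · exact h2 g _ (by omega) (e.trans (mapB hZ))
    · exact h2 g _ (by omega) (e.trans (mapC hZ))

/-- the map from the triple cover to matrices -/
def rho (F : Type*) [Field F] (ω : F) : Spor.threeJ3 F ω →* Matrix Spor.F9 Spor.F9 F :=
  (Units.coeHom _).comp (Spor.threeJ3 F ω).subtype

theorem rho_inj : Function.Injective (rho F ω) :=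
  Units.val_injective.comp Subtype.val_injective

/-- the letters in the triple cover; the letter 6 is the scalar `ω` -/
noncomputable def t3 (ω : F) (ι : K4 →+* F) : ℕ → Spor.threeJ3 F ω :=
  liftS (Spor.threeJ3 F ω).subtype (glS (mF ι))

theorem t3_val (h : ι w4 = ω) {x : ℕ} (hx : x < 7) : rho F ω (t3 ω ι x) = mF ι x := by
  have : (Spor.threeJ3 F ω).subtype (t3 ω ι x) = glS (mF ι) x :=
    liftS_val ⟨⟨_, (gen_eq h).le (letter_mem_gen hx)⟩, rfl⟩
  rw [rho, MonoidHom.comp_apply, this]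
  exact glS_val (unitF ι x (by omega))

theorem t3_top (h : ι w4 = ω) : gen (t3 ω ι) 7 = ⊤ :=
  gen_liftS_top Subtype.val_injective (by rw [gen_eq h, Subgroup.range_subtype])

theorem t3_sat (h : ι w4 = ω) : Sat (t3 ω ι) RZ := fun w hw => rho_inj (by
  rw [map_ev, map_one, ← satF ι w hw]
  exact ev_congr fun x hx => t3_val h ((by decide +kernel : ∀ w ∈ RZ, ∀ x ∈ w, x < 7) w hw x hx))

theorem mapMatrix_inj (ι : K4 →+* F) :
    Function.Injective (ι.mapMatrix : Matrix Spor.F9 Spor.F9 K4 → Matrix Spor.F9 Spor.F9 F) :=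
  Matrix.map_injective ι.injective

theorem central (h : ι w4 = ω) :
    Subgroup.center (Spor.threeJ3 F ω) = Subgroup.zpowers (t3 ω ι 6) ∧
      ∃ e : G ≃* Spor.J3 F ω, ∀ x < 6, e (s x) = QuotientGroup.mk (t3 ω ι x) := by
  have := simple
  refine pres.central hR (t3_top h) (Subgroup.mem_center_iff.mpr fun g => rho_inj ?_) (t3_sat h)
    (by decide +kernel) (by decide +kernel) ⟨t3 ω ι 0, t3 ω ι 3, fun e => mne.1 (mapMatrix_inj ι ?_)⟩
  · have : mF ι 6 = ω • (1 : Matrix Spor.F9 Spor.F9 F) := by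
      rw [mF_eq, mz]; ext i j; simp [Matrix.one_apply, apply_ite ι, h]
    rw [map_mul, map_mul, t3_val h (by norm_num), this]; simp
  · have := congrArg (rho F ω) e
    rw [map_mul, map_mul, t3_val h (by norm_num), t3_val h (by norm_num), mF_eq, mF_eq] at this
    rw [map_mul, map_mul]; exact this

end

/-- the presented group is the Janko group -/
theorem exists_iso (F : Type*) [Field F] [Fintype F] (hF : Fintype.card F = 4) (ω : F)
    (hω : ω ^ 2 + ω + 1 = 0) : Nonempty (G ≃* Spor.J3 F ω) := by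
  obtain ⟨ι, h⟩ := exists_f4hom F hF ω hω
  exact ⟨(central h).2.choose⟩

end Cfsg.Agent.Comp.J3.U
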