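import Cfsg.Agent.Comp.J3.Up
import Cfsg.Agent.Comp.J3.Nets

set_option autoImplicit false
set_option maxRecDepth 100000

namespace Cfsg.Agent.Comp.J3
open Cfsg.Agent.Comp

def W0 : List (List Nat) := [[0],
[1],
[2],
[3],
[4]]

noncomputable def phi : G →* Equiv.Perm ℕ := (pres.rep ok sat).choose

theorem rep : Rep s 6 6156 T phi := (pres.rep ok sat).choose_spec

theorem trans : ∀ i < 6156, ∃ g, phi g 0 = i :=
  rep.trans (sch := [5, 0, 4, 3, 5, 0, 3, 4, 5, 3, 4, 0, 5, 3, 4, 0, 5, 3, 1, 4, 5, 0]) (by decide +kernel)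

theorem stab : (genW s W0).index = 6156 ∧ ∀ g, g ∈ genW s W0 ↔ phi g 0 = 0 :=
  rep.stab_eq (by decide +kernel) (by norm_num) trans (by decide +kernel) (Top.index _ s pres.sat)

theorem orb1 : MulAction.orbit (genW (sig T) W0) 1 = Set.Ico 1 (1 + 85) ∧
    (MulAction.orbit (genW (sig T) W0) 1).ncard = 85 :=
  orbit_ivl (sch := [4, 3, 0, 1, 4, 3, 0, 4, 3, 1, 1, 0, 3, 0, 4]) ok (by norm_num) (by norm_num) (by decide +kernel) (by decide +kernel)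

theorem orb86 : MulAction.orbit (genW (sig T) W0) 86 = Set.Ico 86 (86 + 120) ∧
    (MulAction.orbit (genW (sig T) W0) 86).ncard = 120 :=
  orbit_ivl (sch := [0, 1, 3, 4, 1, 3, 4, 1, 3, 4]) ok (by norm_num) (by norm_num) (by decide +kernel) (by decide +kernel)

theorem orb206 : MulAction.orbit (genW (sig T) W0) 206 = Set.Ico 206 (206 + 510) ∧
    (MulAction.orbit (genW (sig T) W0) 206).ncard = 510 :=
  orbit_ivl (sch := [0, 1, 3, 4, 1, 3, 0, 4, 3, 1, 4, 3, 0, 1, 4, 3, 1]) ok (by norm_num) (by norm_num) (by decide +kernel) (by decide +kernel)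

theorem orb716 : MulAction.orbit (genW (sig T) W0) 716 = Set.Ico 716 (716 + 680) ∧
    (MulAction.orbit (genW (sig T) W0) 716).ncard = 680 :=
  orbit_ivl (sch := [0, 1, 3, 4, 1, 3, 0, 4, 3, 1, 4, 0, 3, 1, 3, 0, 3]) ok (by norm_num) (by norm_num) (by decide +kernel) (by decide +kernel)

theorem orb1396 : MulAction.orbit (genW (sig T) W0) 1396 = Set.Ico 1396 (1396 + 1360) ∧
    (MulAction.orbit (genW (sig T) W0) 1396).ncard = 1360 :=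
  orbit_ivl (sch := [0, 1, 4, 3, 1, 0, 4, 3, 1, 4, 0, 3, 1, 0, 4, 3, 1, 4, 0, 3]) ok (by norm_num) (by norm_num) (by decide +kernel) (by decide +kernel)

theorem orb2756 : MulAction.orbit (genW (sig T) W0) 2756 = Set.Ico 2756 (2756 + 1360) ∧
    (MulAction.orbit (genW (sig T) W0) 2756).ncard = 1360 :=
  orbit_ivl (sch := [0, 1, 3, 1, 0, 4, 3, 1, 0, 4, 3, 1, 4, 0, 3, 1, 0, 3, 0]) ok (by norm_num) (by norm_num) (by decide +kernel) (by decide +kernel)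

theorem orb4116 : MulAction.orbit (genW (sig T) W0) 4116 = Set.Ico 4116 (4116 + 2040) ∧
    (MulAction.orbit (genW (sig T) W0) 4116).ncard = 2040 :=
  orbit_ivl (sch := [0, 1, 3, 4, 1, 3, 0, 4, 3, 1, 4, 3, 0, 1, 3, 4, 1, 0, 1]) ok (by norm_num) (by norm_num) (by decide +kernel) (by decide +kernel)

namespace Col

noncomputable def t0 : Tr := (Tr.node (nat_lit 0) (Tr.leaf (nat_lit 0x8698c482b1fff009fffc2b7fff8a90a64025ffffff815bffe162889034fffe012fffffffffffff8690c43ffffff0097fffffffff8a88c4c023ffffffffffffe1598888347ffe011fffffffffffff8688d60624056008ffffffffff8488e47ffffffffffffc023fff828fffc4c6198fff8047ffffff4a87ffc021ffffffffffffffff48802400c20100128177ffe05a4680b483b205b008008fffe1164480d40040112fff81480200584280e43ffffff1a80043ffffff4081043ffe1111e8fffc7a20100007ffc9200d01e80f40820450))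
(Tr.leaf (nat_lit 0x7ffffffffffffffffffffff0007ffffffffffffffffffffff0007ffffffffffffffffffffff0007ffffffffffffffffffffff0007ffffffffffffffffffffff0007ffffffffffffffffffffff0007ffffffffffffffffffffff0007ffffffffffffffffffffff0007ffffffffffffffffffffff0007ffffffffffffffffffffff86afffffffffffffffffffe0568aa0664029ffffffffffffffff84a7ffffffffffffffffffe16082a0b6ffffffffff8053ffffff80a035bfffffffffffffffe0148a9ffffffffff10c7ffc0adfff)))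

noncomputable def T : Tr := t0

def RT : List (List (List Nat)) := [
  [[nat_lit 3, nat_lit 4, nat_lit 5],
   [nat_lit 0],
   [nat_lit 2, nat_lit 0, nat_lit 1],
   [nat_lit 1, nat_lit 0, nat_lit 2],
   [nat_lit 4, nat_lit 0, nat_lit 4]],
  [[nat_lit 3, nat_lit 1, nat_lit 5, nat_lit 0, nat_lit 3, nat_lit 0, nat_lit 5],
   [nat_lit 5, nat_lit 1, nat_lit 5],
   [nat_lit 1]],
  [[nat_lit 5, nat_lit 2, nat_lit 5],
   [nat_lit 1, nat_lit 1],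
   [nat_lit 2],
   [nat_lit 4, nat_lit 1, nat_lit 4]],
  [[nat_lit 5, nat_lit 0, nat_lit 1, nat_lit 3, nat_lit 5, nat_lit 0, nat_lit 5, nat_lit 2, nat_lit 0],
   [nat_lit 3]],
  [[nat_lit 4],
   [nat_lit 3, nat_lit 0, nat_lit 5],
   [nat_lit 2, nat_lit 0, nat_lit 4, nat_lit 3, nat_lit 0, nat_lit 2, nat_lit 5, nat_lit 3, nat_lit 5]],
  [[nat_lit 4, nat_lit 3, nat_lit 0],
   [nat_lit 5],
   [nat_lit 3, nat_lit 1, nat_lit 5, nat_lit 0, nat_lit 3, nat_lit 0, nat_lit 2]],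
  [[nat_lit 3, nat_lit 0, nat_lit 5, nat_lit 3, nat_lit 0, nat_lit 5, nat_lit 3, nat_lit 0, nat_lit 5],
   [nat_lit 5, nat_lit 5],
   [nat_lit 5, nat_lit 0, nat_lit 5, nat_lit 0, nat_lit 5, nat_lit 0],
   [nat_lit 5, nat_lit 1, nat_lit 0, nat_lit 3, nat_lit 0, nat_lit 5, nat_lit 2, nat_lit 3],
   [nat_lit 0, nat_lit 0],
   [nat_lit 1, nat_lit 2],
   [nat_lit 3, nat_lit 3],
   [nat_lit 2, nat_lit 1],
   [nat_lit 4, nat_lit 4],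
   [nat_lit 1, nat_lit 4, nat_lit 3, nat_lit 0, nat_lit 3, nat_lit 4, nat_lit 2, nat_lit 3, nat_lit 0, nat_lit 3, nat_lit 4, nat_lit 2, nat_lit 3, nat_lit 0, nat_lit 3]]]

def HT : List (List (Nat × Nat × Nat)) := [
  [(0, 0, 1), (0, 1, 0), (0, 8, 3), (0, 8, 1), (0, 12, 1)],
  [(0, 23, 5), (0, 16, 3), (0, 2, 0)],
  [(0, 16, 1), (0, 7, 0), (0, 2, 1), (0, 13, 1)],
  [(0, 42, 9), (0, 4, 0)],
  [(0, 5, 0), (1, 0, 2), (1, 38, 8)],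
  [(1, 0, 1), (0, 6, 0), (0, 22, 3)],
  [(1, 30, 1), (0, 6, 0), (0, 17, 1), (1, 22, 5), (0, 1, 0), (0, 2, 0), (0, 4, 0), (0, 2, 1), (0, 5, 0), (1, 15, 1)]]

def R : List (List Nat) :=
  [[0, 3, 4, 5],
   [0, 0],
   [1, 2],
   [2, 1],
   [3, 3],
   [4, 4],
   [5, 5],
   [1, 1, 1],
   [0, 1, 0, 2],
   [1, 3, 1, 3, 1, 3],
   [0, 3, 0, 3, 0, 3, 0, 3],
   [0, 1, 3, 2, 0, 3, 1, 0, 3, 0, 2, 3],
   [0, 4, 0, 4],
   [1, 4, 1, 4],
   [1, 3, 1, 4, 3, 2, 4, 3, 4, 2, 3, 4],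
   [0, 3, 1, 4, 3, 0, 3, 1, 4, 3, 0, 3, 4, 2, 3],
   [1, 5, 2, 5],
   [0, 5, 0, 5, 0, 5],
   [0, 1, 3, 0, 2, 5, 3, 5],
   [3, 5, 3, 5, 3, 5, 3, 5],
   [0, 1, 3, 0, 5, 2, 3, 5],
   [0, 1, 3, 2, 0, 5, 3, 5],
   [0, 2, 5, 3, 1, 5, 0, 3],
   [0, 3, 0, 5, 2, 3, 1, 5],
   [0, 1, 3, 0, 1, 5, 1, 3, 5],
   [0, 1, 3, 1, 0, 5, 1, 3, 5],
   [0, 1, 5, 3, 2, 3, 5, 0, 3],
   [0, 1, 5, 3, 5, 0, 3, 2, 3],
   [0, 2, 3, 0, 5, 2, 3, 2, 5],
   [0, 2, 3, 0, 5, 3, 1, 3, 5],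
   [0, 3, 5, 0, 3, 5, 0, 3, 5],
   [0, 1, 3, 2, 0, 3, 5, 3, 5, 3],
   [0, 3, 0, 3, 2, 5, 3, 1, 5, 3],
   [0, 1, 3, 4, 2, 0, 2, 4, 5, 3, 5],
   [0, 1, 3, 5, 3, 5, 3, 0, 3, 2, 3],
   [0, 3, 0, 3, 1, 5, 3, 2, 3, 5, 3],
   [3, 4, 3, 4, 3, 4, 3, 4, 3, 4, 3, 4],
   [3, 4, 3, 5, 3, 4, 5, 4, 5, 4, 3, 5, 3, 4, 5, 3, 5],
   [0, 1, 4, 5, 3, 5, 1, 0, 3, 4],
   [0, 2, 3, 0, 3, 2, 3, 5, 3, 5, 2, 3],
   [0, 4, 5, 3, 4, 3, 4, 3, 5, 4, 0, 5, 3, 4, 3, 4, 3, 5],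
   [0, 1, 3, 4, 1, 0, 4, 5, 3, 5],
   [0, 1, 3, 5, 0, 5, 2, 0, 3, 5],
   [0, 1, 4, 3, 5, 4, 0, 5, 3, 4, 5, 3, 4, 2, 0, 3, 5, 0, 4, 5, 3, 4, 5, 3]]

def W : List (List Nat) := []

noncomputable def P : Par := ⟨T, (nat_lit 4), (nat_lit 15), (nat_lit 104), (nat_lit 13), (nat_lit 8191), (nat_lit 6), (nat_lit 63), (nat_lit 6), (nat_lit 17), (nat_lit 48), (nat_lit 0x398a418440), RT⟩

noncomputable def J0 : List Nat := [
  nat_lit 0x11c00871012c008b112c0087115c00831206118c008b10467630031c46b0020c410118118000003e7104185720021c41044f000df16246000cf185280021c411dc0083145725f8011b16180087105185b9180031c5920021c47b000c716a46000d3105d9280033c518619480030c405686520002431041041061041061047e4e8214800092c63a080030c410610410414656e670054c410418568000c71548008711fc0031c410410610519560034c598520034c410410614e54800e3104106104114c0036c410410610539560035c629480032c415a00030c410616617a3a084e0020f105b918525a00070c41841624614968001cb148b001171,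
  nat_lit 0x5684e0031c4113814998138024310410610410410569560031c4106104105b97a0034c608520033c41041041041041041846e4600018b15a15800c31041041041041041041041041041041041041041041041041041041041041041041041041041041041041041041041041041041041041041041]

theorem c0 : chk T (nat_lit 4) (nat_lit 15) (nat_lit 104) (nat_lit 13) (nat_lit 8191) (nat_lit 6) (nat_lit 63) (nat_lit 6) (nat_lit 17) (nat_lit 48) (nat_lit 0x398a418440) (nat_lit 4) (nat_lit 15) RT (nat_lit 16) J0 (nat_lit 16) = true := by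
  decide +kernel

theorem r0 : P.RowsOK 16 48 := chk_sound P _ _ _ J0 _ _ (by decide +kernel) c0

theorem index.{u} : IndexLe.{u} 6 R W 1 :=
  indexLe_of_cert P HT (by decide +kernel)
    (show P.RowsOK 16 48 from r0)

end Col

theorem card : Finite G ∧ Nat.card G = 50232960 ∧ Function.Injective phi :=
  rep.card_eq up low

def primT : List (List Nat × List Nat) :=
  [([5], [0, 1, 5, 0, 4, 1, 5, 0, 4, 5, 1, 0, 4, 5, 1, 0, 4, 2, 5, 0, 4, 2, 1]),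
   ([5, 0, 4, 3, 4, 5, 0, 4, 5], [0, 1, 2, 5, 4, 2, 1, 4, 5, 2, 0, 1, 5, 2, 4, 5, 2, 4, 1, 2, 0, 4, 1]),
   ([5, 0, 4, 3, 1, 5, 3, 4, 5], [0, 1, 2, 4, 5, 2, 4, 1, 2, 4, 5, 2, 4, 1, 0, 2, 4, 1, 5, 2, 4, 1, 4, 5]),
   ([5, 4, 5], [0, 1, 4, 1, 2, 5, 4, 2, 5, 1, 4, 2, 1, 4, 0, 1, 4, 5, 2, 1, 4, 5, 1, 2]),
   ([5, 4, 3, 4, 5], [0, 1, 2, 4, 5, 4, 1, 2, 5, 4, 2, 5, 1, 4, 2, 5, 0, 1, 5, 2, 4, 5, 2, 1, 2]),
   ([5, 0, 4, 5], [0, 1, 4, 5, 1, 2, 4, 2, 5, 1, 4, 2, 5, 1, 4, 2, 0, 1, 4, 5, 1, 2, 4, 5, 2]),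
   ([5, 4, 3, 5, 4, 5], [0, 1, 2, 4, 5, 2, 4, 1, 5, 4, 2, 5, 4, 1, 2, 4, 5, 0, 4, 1, 5, 4, 1, 5])]

theorem prim_0 : Nat.beq (grow T ([5] :: W0) [0, 1, 5, 0, 4, 1, 5, 0, 4, 5, 1, 0, 4, 5, 1, 0, 4, 2, 5, 0, 4, 2, 1] (pt (nat_lit 0))) (ivl (nat_lit 0) (nat_lit 6156)) = true := by
  decide +kernel

theorem prim_1 : Nat.beq (grow T ([5, 0, 4, 3, 4, 5, 0, 4, 5] :: W0) [0, 1, 2, 5, 4, 2, 1, 4, 5, 2, 0, 1, 5, 2, 4, 5, 2, 4, 1, 2, 0, 4, 1] (pt (nat_lit 0))) (ivl (nat_lit 0) (nat_lit 6156)) = true := by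
  decide +kernel

theorem prim_2 : Nat.beq (grow T ([5, 0, 4, 3, 1, 5, 3, 4, 5] :: W0) [0, 1, 2, 4, 5, 2, 4, 1, 2, 4, 5, 2, 4, 1, 0, 2, 4, 1, 5, 2, 4, 1, 4, 5] (pt (nat_lit 0))) (ivl (nat_lit 0) (nat_lit 6156)) = true := by
  decide +kernel

theorem prim_3 : Nat.beq (grow T ([5, 4, 5] :: W0) [0, 1, 4, 1, 2, 5, 4, 2, 5, 1, 4, 2, 1, 4, 0, 1, 4, 5, 2, 1, 4, 5, 1, 2] (pt (nat_lit 0))) (ivl (nat_lit 0) (nat_lit 6156)) = true := by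
  decide +kernel

theorem prim_4 : Nat.beq (grow T ([5, 4, 3, 4, 5] :: W0) [0, 1, 2, 4, 5, 4, 1, 2, 5, 4, 2, 5, 1, 4, 2, 5, 0, 1, 5, 2, 4, 5, 2, 1, 2] (pt (nat_lit 0))) (ivl (nat_lit 0) (nat_lit 6156)) = true := by
  decide +kernel

theorem prim_5 : Nat.beq (grow T ([5, 0, 4, 5] :: W0) [0, 1, 4, 5, 1, 2, 4, 2, 5, 1, 4, 2, 5, 1, 4, 2, 0, 1, 4, 5, 1, 2, 4, 5, 2] (pt (nat_lit 0))) (ivl (nat_lit 0) (nat_lit 6156)) = true := by
  decide +kernel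

theorem prim_6 : Nat.beq (grow T ([5, 4, 3, 5, 4, 5] :: W0) [0, 1, 2, 4, 5, 2, 4, 1, 5, 4, 2, 5, 4, 1, 2, 4, 5, 0, 4, 1, 5, 4, 1, 5] (pt (nat_lit 0))) (ivl (nat_lit 0) (nat_lit 6156)) = true := by
  decide +kernel

theorem prim : Prim (gen (sig T) 6) 0 :=
  prim_of_cert (W := W0) (ts := primT) (sch := [0, 4, 3, 1, 4, 3, 0, 1, 3, 4, 1, 3, 0, 1, 3, 4, 1, 3, 0]) ok (ok.genW_le _) (by norm_num) (genW_le_gen (by decide +kernel)) (by decide +kernel)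
    (fun t ht => ev_mem fun x hx => letter_mem_gen ((by decide +kernel : ∀ t ∈ primT, ∀ x ∈ t.1, x < 6) t ht x hx)) (by decide +kernel)
    (by simp only [primT, List.forall_mem_cons]; exact ⟨prim_0, prim_1, prim_2, prim_3, prim_4, prim_5, prim_6, by simp⟩)

def XP : List (List Nat) := [[0, 3, 4, 5, 0, 3, 4, 5, 0, 3, 4, 5, 0, 3, 4, 5, 0, 3, 4, 5, 0, 3, 4, 5, 0, 3, 4, 5, 0, 3, 4, 5, 0, 3, 4, 5, 0, 3, 4, 5, 0, 3, 4, 5, 0, 3, 4, 5, 0, 3, 4, 5, 0, 3, 4, 5, 0, 3, 4, 5, 0, 3, 4, 5, 0, 3, 4, 5, 0, 3, 4, 5, 0, 3, 4, 5]]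

theorem satX : Sat (sig T) XP :=
  sat_of_relsP ok (by norm_num) (show relsP (nat_lit 6156) (nat_lit 13) (nat_lit 0) (nat_lit 13) T XP = true by decide +kernel)

theorem simple : IsSimpleGroup G :=
  rep.simple (m := 8160) (p := 19) (X := [[0, 3, 4, 5]]) card.2.2 (by norm_num) (by norm_num) trans prim card.2.1 (by norm_num) pres.sat
    Col.index (by decide +kernel) (by decide +kernel) (satX.mono (by decide +kernel))


end Cfsg.Agent.Comp.J3
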