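import Cfsg.Agent.Comp.J3.Pres
import Cfsg.Agent.Comp.J3.Top

set_option autoImplicit false
set_option maxRecDepth 100000

namespace Cfsg.Agent.Comp.J3
open Cfsg.Agent.Comp

namespace Tk3

noncomputable def t0 : Tr := (Tr.leaf (nat_lit 0x1fffff800fffffc007ffffe003fffff001fffff800fffffc007ffffe003fffff001fffff800fffffc007ffffe003fffff001fffff800fffffe087ff020003ff831))

noncomputable def T : Tr := t0

def RT : List (List (List Nat)) := [
  [],
  []]

def HT : List (List (Nat × Nat × Nat)) := [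
  [],
  []]

def R : List (List Nat) :=
  [[0, 0]]

def W : List (List Nat) := []

noncomputable def P : Par := ⟨T, (nat_lit 4), (nat_lit 15), (nat_lit 33), (nat_lit 11), (nat_lit 2047), (nat_lit 5), (nat_lit 31), (nat_lit 1), (nat_lit 18), (nat_lit 32), (nat_lit 0x820), RT⟩

noncomputable def J0 : List Nat := [
  nat_lit 0x69249249249249249249249]

theorem c0 : chk T (nat_lit 4) (nat_lit 15) (nat_lit 33) (nat_lit 11) (nat_lit 2047) (nat_lit 5) (nat_lit 31) (nat_lit 1) (nat_lit 18) (nat_lit 32) (nat_lit 0x820) (nat_lit 1) (nat_lit 1) RT (nat_lit 16) J0 (nat_lit 16) = true := by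
  decide +kernel

theorem r0 : P.RowsOK 16 32 := chk_sound P _ _ _ J0 _ _ (by decide +kernel) c0

theorem index.{u} : IndexLe.{u} 1 R W 2 :=
  indexLe_of_cert P HT (by decide +kernel)
    (show P.RowsOK 16 32 from r0)

end Tk3

theorem upK_3 : CardLe (genW s [[0]]) 2 :=
  CardLe.tc (V' := []) (n := 2) (m := 1) [0] Tk3.index pres.sat (by decide +kernel) (by decide +kernel) (by decide +kernel) (cardLe_nil s)

namespace Tk2

noncomputable def t0 : Tr := (Tr.leaf (nat_lit 0x1ffffffffffe003ffffffffffc007ffffffffff800fffffffffff001ffffffffffe003ffffffffffc007ffffffffff800fffffffffff001ffffffffffe003ffffffffffc007ffffffffff800fffffffffff001fffffffffff143ff85102014a187ff0201c828800ffe0c818830))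

noncomputable def T : Tr := t0

def RT : List (List (List Nat)) := [
  [[nat_lit 4],
   [nat_lit 2, nat_lit 0, nat_lit 1],
   [nat_lit 1, nat_lit 0, nat_lit 2]],
  [],
  [[nat_lit 1, nat_lit 1]],
  []]

def HT : List (List (Nat × Nat × Nat)) := [
  [(2, 0, 0), (0, 4, 3), (0, 4, 1)],
  [],
  [(0, 3, 0)],
  []]

def R : List (List Nat) :=
  [[0, 0],
   [1, 2],
   [2, 1],
   [1, 1, 1],
   [0, 1, 0, 2]]

def W : List (List Nat) := [[0]]

noncomputable def P : Par := ⟨T, (nat_lit 4), (nat_lit 15), (nat_lit 55), (nat_lit 11), (nat_lit 2047), (nat_lit 5), (nat_lit 31), (nat_lit 3), (nat_lit 19), (nat_lit 32), (nat_lit 0x418440), RT⟩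

noncomputable def J0 : List Nat := [
  nat_lit 0x8c8016221914108421084210842108421084210842108421084210842108421084210842108421]

theorem c0 : chk T (nat_lit 4) (nat_lit 15) (nat_lit 55) (nat_lit 11) (nat_lit 2047) (nat_lit 5) (nat_lit 31) (nat_lit 3) (nat_lit 19) (nat_lit 32) (nat_lit 0x418440) (nat_lit 3) (nat_lit 7) RT (nat_lit 16) J0 (nat_lit 16) = true := by
  decide +kernel

theorem r0 : P.RowsOK 16 32 := chk_sound P _ _ _ J0 _ _ (by decide +kernel) c0

theorem index.{u} : IndexLe.{u} 3 R W 3 :=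
  indexLe_of_cert P HT (by decide +kernel)
    (show P.RowsOK 16 32 from r0)

end Tk2

theorem upK_2 : CardLe (genW s [[0], [1], [2]]) 6 :=
  CardLe.tc (V' := [[0]]) (n := 3) (m := 2) [0, 1, 2] Tk2.index pres.sat (by decide +kernel) (by decide +kernel) (by decide +kernel) upK_3

namespace Tk1

noncomputable def t0 : Tr := (Tr.leaf (nat_lit 0xa2cfffc0b40dc00c82768b1fff06e0174030059a1c7ffc0b601803f02fe831fff07f02641fe01882bfffc0fa05a00b81ee06ffff03f805c0f607a83b7ffc02c03f05e01fa0ebfff00a80f807a03c6397ffc02403b01d015d8a5fff01c81540240546197ffc07001203b014d0a3fff029814c022076418fffc0e801103a01d5023fff01b80d806a0112387ffc02003401980c8001fff0188140060030))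

noncomputable def T : Tr := t0

def RT : List (List (List Nat)) := [
  [[nat_lit 2, nat_lit 0, nat_lit 1],
   [nat_lit 1, nat_lit 0, nat_lit 2],
   [nat_lit 5],
   [nat_lit 3, nat_lit 0, nat_lit 3, nat_lit 0, nat_lit 3, nat_lit 0, nat_lit 3],
   [nat_lit 1, nat_lit 3, nat_lit 2, nat_lit 0, nat_lit 3, nat_lit 1, nat_lit 0, nat_lit 3, nat_lit 0, nat_lit 2, nat_lit 3]],
  [[nat_lit 5]],
  [[nat_lit 1, nat_lit 1],
   [nat_lit 0, nat_lit 3, nat_lit 0, nat_lit 2, nat_lit 3, nat_lit 0, nat_lit 1, nat_lit 3, nat_lit 2, nat_lit 0, nat_lit 3]],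
  [[nat_lit 2, nat_lit 3, nat_lit 2, nat_lit 3, nat_lit 2],
   [nat_lit 1, nat_lit 3, nat_lit 1, nat_lit 3, nat_lit 1]],
  []]

def HT : List (List (Nat × Nat × Nat)) := [
  [(0, 5, 3), (0, 5, 1), (2, 0, 0), (0, 7, 1), (0, 8, 1)],
  [(2, 1, 0)],
  [(0, 4, 0), (0, 8, 7)],
  [(1, 6, 1), (0, 6, 0)],
  []]

def R : List (List Nat) :=
  [[0, 0],
   [1, 2],
   [2, 1],
   [3, 3],
   [1, 1, 1],
   [0, 1, 0, 2],
   [1, 3, 1, 3, 1, 3],
   [0, 3, 0, 3, 0, 3, 0, 3],
   [0, 1, 3, 2, 0, 3, 1, 0, 3, 0, 2, 3]]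

def W : List (List Nat) := [[0],
   [1],
   [2]]

noncomputable def P : Par := ⟨T, (nat_lit 4), (nat_lit 15), (nat_lit 78), (nat_lit 13), (nat_lit 8191), (nat_lit 5), (nat_lit 31), (nat_lit 4), (nat_lit 32), (nat_lit 32), (nat_lit 0xa418440), RT⟩

noncomputable def J0 : List Nat := [
  nat_lit 0x5640011900200886200081101114c284405c500d022100442008850880b8a0188602045074530b8a61]

theorem c0 : chk T (nat_lit 4) (nat_lit 15) (nat_lit 78) (nat_lit 13) (nat_lit 8191) (nat_lit 5) (nat_lit 31) (nat_lit 4) (nat_lit 32) (nat_lit 32) (nat_lit 0xa418440) (nat_lit 3) (nat_lit 7) RT (nat_lit 16) J0 (nat_lit 16) = true := by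
  decide +kernel

theorem r0 : P.RowsOK 16 32 := chk_sound P _ _ _ J0 _ _ (by decide +kernel) c0

theorem index.{u} : IndexLe.{u} 4 R W 16 :=
  indexLe_of_cert P HT (by decide +kernel)
    (show P.RowsOK 16 32 from r0)

end Tk1

theorem upK_1 : CardLe (genW s [[0], [1], [2], [3]]) 96 :=
  CardLe.tc (V' := [[0], [1], [2]]) (n := 16) (m := 6) [0, 1, 2, 3] Tk1.index pres.sat (by decide +kernel) (by decide +kernel) (by decide +kernel) upK_2

namespace Tk0

noncomputable def t0 : Tr := (Tr.node (nat_lit 2) (Tr.node (nat_lit 0) (Tr.leaf (nat_lit 0x5217ffff001700ab02a1011a019b5197ffff00aa001700a900a800a74196ffff00a60016031d029d00a54215ffff0015019b0116021b02214214ffff0014021c029c0116021f4213ffff001300a4019f01a101164193ffff0222001300a300a201994113ffff00a100a00117001301154093ffff009f009e0013019801143212ffff0012009d019b019c019a3112ffff009c02140114001201983092ffff009b02950012019501973012ffff009a00990098009700122191ffff009600110095009400931210ffff001000920211019101110000ffff00910090011000900090))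
(Tr.node (nat_lit 1) (Tr.leaf (nat_lit 0x6024ffff073000c300c207b2002461a1ffff02c0002100c100c000bf6220ffff002000be033501bd03376120ffff00bd0122032700200328619fffff00bc001f00bb00ba00b9621effff001e00b801b601b701b5611effff00b703270128001e0220609effff00b60123001e01a903ac601effff00b503a9022003ac001e521dffff001d0126042603a601b4501dffff00b400b303a50325001d519affff00b2001a00b100b000af5119ffff02a301a80122001902235099ffff019901ac001901a302225218ffff001800ae011a021f019c5198ffff00ad001800ac02a702a9))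
(Tr.leaf (nat_lit 0x702effff09c402b900d608c4002e71adffff0355002d00d500d400d3722cffff002c07d0012d03b503b6722bffff002b00d201d102ca01d0712bffff034a01b0013a002b01cf70abffff00d10341002b01bb01ce702bffff00d0033f00cf00ce002b71aaffff064b002a00cd00cc00cb7229ffff002900ca012a023602ad7228ffff002800c902b7012a043d7227ffff002700c8043d02ad012a6225ffff00250b3404b40434012661a5ffff00c7002500c600c502436224ffff002400c4072f07c207b06124ffff084202400130002401c260a4ffff06af023b002401b10732))))
(Tr.node (nat_lit 3) (Tr.leaf (nat_lit 0x8139ffff03de0342014e0039013b80b9ffff06df04d7003901cf013a8138ffff055d0451014c003804c880b8ffff03c807d9003801cd065d8038ffff05b800df054806dd003881b7ffff02bb0037023c03d100de81b6ffff08d80036085903d208db81b5ffff044c003500dd05cb054d7233ffff003300dc01da01db02d97133ffff00db03c50145003302d870b3ffff00da0446003301c602d771b2ffff093f0032093f08d6094071afffff00d9002f00d800d701b3712fffff07b103cf0832002f0131712effff034102ba0140002e01d670aeffff022e01b1002e01c108c4))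
(Tr.node (nat_lit 4) (Tr.leaf (nat_lit 0x91cbffff064e004b065e065005d1904affff034f075502d006df004a9148ffff04cd0354064b004805cc81c7ffff00e3004709dc095c00e28246ffff00460a5a0147025a08498245ffff00450adb02db014708528243ffff0043074c07d207c902478143ffff084904d601570043024680c3ffff0852044e004301d80245813fffff03d605580844003f0141813effff02be06de0154003e01e180beffff03d403dd003e01d501e0803effff03e107e100e100e0003e81bcffff08d7003c0349085908da823affff003a03cd034a013c065f8239ffff0039073d06df035e013c))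
(Tr.leaf (nat_lit 0xffffffffffffffffffffffff0000ffffffffffffffffffffffff0000ffffffffffffffffffffffff0000ffffffffffffffffffffffff0000ffffffffffffffffffffffff0000ffffffffffffffffffffffff0000ffffffffffffffffffffffff0000ffffffffffffffffffffffff0000ffffffffffffffffffffffff0000ffffffffffffffffffffffff0000ffffffffffffffffffffffffa262ffff006209640a6409e40163925cffff005c0ae30ae30a6301e4905cffff00e407e0096208e2005c9153ffff0353075301600053015590d3ffff04600862005301e10154)))))

noncomputable def T : Tr := t0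

def RT : List (List (List Nat)) := [
  [[nat_lit 2, nat_lit 0, nat_lit 1],
   [nat_lit 1, nat_lit 0, nat_lit 2],
   [nat_lit 4, nat_lit 0, nat_lit 4],
   [nat_lit 3, nat_lit 0, nat_lit 3, nat_lit 0, nat_lit 3, nat_lit 0, nat_lit 3],
   [nat_lit 6],
   [nat_lit 1, nat_lit 3, nat_lit 2, nat_lit 0, nat_lit 3, nat_lit 1, nat_lit 0, nat_lit 3, nat_lit 0, nat_lit 2, nat_lit 3],
   [nat_lit 3, nat_lit 4, nat_lit 2, nat_lit 3, nat_lit 0, nat_lit 3, nat_lit 1, nat_lit 4, nat_lit 3, nat_lit 0, nat_lit 3, nat_lit 4, nat_lit 2, nat_lit 3]],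
  [[nat_lit 4, nat_lit 2, nat_lit 4],
   [nat_lit 2, nat_lit 2],
   [nat_lit 6],
   [nat_lit 3, nat_lit 2, nat_lit 3, nat_lit 2, nat_lit 3],
   [nat_lit 0, nat_lit 1, nat_lit 0]],
  [[nat_lit 1, nat_lit 1],
   [nat_lit 4, nat_lit 1, nat_lit 4],
   [nat_lit 0, nat_lit 3, nat_lit 0, nat_lit 2, nat_lit 3, nat_lit 0, nat_lit 1, nat_lit 3, nat_lit 2, nat_lit 0, nat_lit 3],
   [nat_lit 3, nat_lit 4, nat_lit 2, nat_lit 3, nat_lit 2, nat_lit 4, nat_lit 3, nat_lit 1, nat_lit 4, nat_lit 3, nat_lit 4],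
   [nat_lit 0, nat_lit 2, nat_lit 0],
   [nat_lit 3, nat_lit 1, nat_lit 3, nat_lit 1, nat_lit 3]],
  [[nat_lit 2, nat_lit 3, nat_lit 2, nat_lit 3, nat_lit 2],
   [nat_lit 1, nat_lit 3, nat_lit 1, nat_lit 3, nat_lit 1],
   [nat_lit 6],
   [nat_lit 4, nat_lit 1, nat_lit 3, nat_lit 4, nat_lit 2, nat_lit 3, nat_lit 2, nat_lit 4, nat_lit 3, nat_lit 1, nat_lit 4],
   [nat_lit 4, nat_lit 3, nat_lit 4, nat_lit 3, nat_lit 4, nat_lit 3, nat_lit 4, nat_lit 3, nat_lit 4, nat_lit 3, nat_lit 4],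
   [nat_lit 0, nat_lit 3, nat_lit 0, nat_lit 3, nat_lit 0, nat_lit 3, nat_lit 0],
   [nat_lit 1, nat_lit 0, nat_lit 3, nat_lit 0, nat_lit 2, nat_lit 3, nat_lit 0, nat_lit 1, nat_lit 3, nat_lit 2, nat_lit 0],
   [nat_lit 4, nat_lit 2, nat_lit 3, nat_lit 4, nat_lit 1, nat_lit 3, nat_lit 1, nat_lit 4, nat_lit 3, nat_lit 2, nat_lit 4],
   [nat_lit 1, nat_lit 4, nat_lit 3, nat_lit 4, nat_lit 1, nat_lit 3, nat_lit 4, nat_lit 2, nat_lit 3, nat_lit 2, nat_lit 4]],
  [[nat_lit 2, nat_lit 3, nat_lit 0, nat_lit 3, nat_lit 4, nat_lit 2, nat_lit 3, nat_lit 0, nat_lit 3, nat_lit 1, nat_lit 4, nat_lit 3, nat_lit 0, nat_lit 3],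
   [nat_lit 1, nat_lit 4, nat_lit 1],
   [nat_lit 1, nat_lit 3, nat_lit 4, nat_lit 2, nat_lit 3, nat_lit 2, nat_lit 4, nat_lit 3, nat_lit 1, nat_lit 4, nat_lit 3],
   [nat_lit 2, nat_lit 3, nat_lit 4, nat_lit 1, nat_lit 3, nat_lit 1, nat_lit 4, nat_lit 3, nat_lit 2, nat_lit 4, nat_lit 3],
   [nat_lit 0, nat_lit 4, nat_lit 0],
   [nat_lit 2, nat_lit 4, nat_lit 2],
   [nat_lit 3, nat_lit 4, nat_lit 1, nat_lit 3, nat_lit 4, nat_lit 2, nat_lit 3, nat_lit 2, nat_lit 4, nat_lit 3, nat_lit 1]],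
  []]

def HT : List (List (Nat × Nat × Nat)) := [
  [(0, 6, 3), (0, 6, 1), (0, 10, 1), (0, 8, 1), (2, 0, 0), (0, 9, 1), (1, 13, 10)],
  [(1, 11, 0), (1, 5, 0), (2, 1, 0), (1, 7, 0), (0, 6, 0)],
  [(0, 5, 0), (0, 11, 1), (0, 9, 7), (1, 12, 7), (0, 6, 2), (0, 7, 1)],
  [(1, 7, 1), (0, 7, 0), (2, 3, 0), (1, 12, 5), (0, 14, 1), (0, 8, 0), (0, 9, 6), (0, 12, 8), (1, 12, 2)],
  [(1, 13, 7), (0, 11, 0), (1, 12, 6), (0, 12, 9), (0, 10, 0), (1, 11, 1), (1, 12, 4)],
  []]

def R : List (List Nat) :=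
  [[0, 0],
   [1, 2],
   [2, 1],
   [3, 3],
   [4, 4],
   [1, 1, 1],
   [0, 1, 0, 2],
   [1, 3, 1, 3, 1, 3],
   [0, 3, 0, 3, 0, 3, 0, 3],
   [0, 1, 3, 2, 0, 3, 1, 0, 3, 0, 2, 3],
   [0, 4, 0, 4],
   [1, 4, 1, 4],
   [1, 3, 1, 4, 3, 2, 4, 3, 4, 2, 3, 4],
   [0, 3, 1, 4, 3, 0, 3, 1, 4, 3, 0, 3, 4, 2, 3],
   [3, 4, 3, 4, 3, 4, 3, 4, 3, 4, 3, 4]]

def W : List (List Nat) := [[0],
   [1],
   [2],
   [3]]

noncomputable def P : Par := ⟨T, (nat_lit 4), (nat_lit 15), (nat_lit 112), (nat_lit 16), (nat_lit 65535), (nat_lit 7), (nat_lit 127), (nat_lit 5), (nat_lit 101), (nat_lit 112), (nat_lit 0x18a418440), RT⟩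

noncomputable def J0 : List Nat := [
  nat_lit 0x14c40012c400012c40142008410008401840000100840010848c010000841208400138480015008401400084102008410335841050840100084014200841,
  nat_lit 0x84014330841208408138480c1000840185800010206841841000100848017848c01000084100084013848c01000084100084018400001,
  nat_lit 0x408420108480010330841000840142058414200841020084143308410008401840000100840010848c0100008414330841000840184c1c01,
  nat_lit 0x30849410848cc138400c1500840100084c100840010848c0100008410008401000840100585c184181c1008414188480012084001384a001,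
  nat_lit 0x400284102228410078401840000100841c10848901385c18120849c138488c145798413200841233284106084013848cc184181c15668581,
  nat_lit 0x20841c13849d818541c01020a8414205841041041041041041041041041041041041041041041041041041041041041041041041041041041041041041041041041041]

theorem c0 : chk T (nat_lit 4) (nat_lit 15) (nat_lit 112) (nat_lit 16) (nat_lit 65535) (nat_lit 7) (nat_lit 127) (nat_lit 5) (nat_lit 101) (nat_lit 112) (nat_lit 0x18a418440) (nat_lit 4) (nat_lit 15) RT (nat_lit 16) J0 (nat_lit 16) = true := by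
  decide +kernel

theorem r0 : P.RowsOK 16 112 := chk_sound P _ _ _ J0 _ _ (by decide +kernel) c0

theorem index.{u} : IndexLe.{u} 5 R W 85 :=
  indexLe_of_cert P HT (by decide +kernel)
    (show P.RowsOK 16 112 from r0)

end Tk0

theorem upK : CardLe (genW s [[0], [1], [2], [3], [4]]) 8160 :=
  CardLe.tc (V' := [[0], [1], [2], [3]]) (n := 85) (m := 96) [0, 1, 2, 3, 4] Tk0.index pres.sat (by decide +kernel) (by decide +kernel) (by decide +kernel) upK_1

theorem up : CardLe (gen s 6) 50232960 := upK.step (Top.index _ s pres.sat)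

end Cfsg.Agent.Comp.J3
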